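import Groth.Prelude.Def_W4c2arithlefschetzGraph
import Mathlib.LinearAlgebra.Matrix.NonsingularInverse
import Mathlib.LinearAlgebra.Matrix.ToLinearEquiv
import Mathlib.Algebra.Order.BigOperators.Ring.Finset
import Mathlib.Tactic.Linarith
import Mathlib.Tactic.Ring

set_option autoImplicit false
set_option linter.unusedSectionVars false

namespace Groth.Agent.ArLef15

open ArLef Matrix

variable {n : ℕ} (G : BlowupGraph n)

/-- `1` minus the proximity matrix -/
def prox : Matrix (Fin n) (Fin n) ℚ :=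
  fun m p => (if m = p then 1 else 0) - (if p ∈ G.par m then 1 else 0)

/-- total transforms -/
def tot : Matrix (Fin n) (Fin n) ℚ := fun m k => (G.tt k m : ℚ)

lemma tt_rec (k m : Fin n) :
    G.tt k m = (if m = k then 1 else 0) + ∑ p ∈ G.par m, G.tt k p := by
  classical
  have hlt : ∀ m : Fin n, m < k → G.tt k m = 0 := fun m h => by
    unfold BlowupGraph.tt
    rw [BlowupGraph.ttN, if_pos (Fin.lt_def.1 h)]
  rcases lt_trichotomy m k with h | h | h
  · rw [hlt m h, if_neg h.ne, zero_add, Finset.sum_eq_zero]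
    exact fun p hp => hlt p ((G.par_lt m p hp).trans h)
  · subst h
    rw [if_pos rfl, Finset.sum_eq_zero (fun p hp => hlt p (G.par_lt m p hp)), add_zero]
    unfold BlowupGraph.tt
    rw [BlowupGraph.ttN, if_neg (lt_irrefl _), if_pos rfl]
  · rw [if_neg h.ne', zero_add]
    unfold BlowupGraph.tt
    conv_lhs => rw [BlowupGraph.ttN]
    rw [if_neg (not_lt.2 (Fin.le_def.1 h.le)), if_neg (fun e => h.ne' (Fin.ext e))]
    rw [Finset.sum_attach (G.parN m.1) (fun p => G.ttN k.1 p)]
    unfold BlowupGraph.parN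
    rw [dif_pos m.2, Finset.sum_map]
    rfl

lemma prox_mul_tot : prox G * tot G = 1 := by
  classical
  ext m k
  rw [Matrix.mul_apply, Matrix.one_apply]
  simp only [prox, tot, sub_mul, ite_mul, one_mul, zero_mul, Finset.sum_sub_distrib]
  rw [Finset.sum_ite_eq, if_pos (Finset.mem_univ _), ← Finset.sum_filter,
    Finset.filter_univ_mem, tt_rec G k m]
  push_cast
  split_ifs <;> ring

lemma mat_eq : G.mat = -((prox G)ᵀ * prox G) := by
  classical
  have key : ∀ p q : Fin n, p < q →
      (if G.Adj p q then (1 : ℚ) else 0) =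
        (if p ∈ G.par q then 1 else 0) -
          ∑ m, (if p ∈ G.par m then (1 : ℚ) else 0) * (if q ∈ G.par m then 1 else 0) := by
    intro p q hpq
    have hnot : q ∉ G.par p := fun h => (not_lt.2 (G.par_lt p q h).le) hpq
    by_cases hex : ∃ m, p ∈ G.par m ∧ q ∈ G.par m
    · obtain ⟨m0, hp0, hq0⟩ := hex
      have hpar : ∀ m, p ∈ G.par m → q ∈ G.par m → G.par m = {p, q} := fun m hp hq => by
        refine (Finset.eq_of_subset_of_card_le ?_ ?_).symm
        · simp [Finset.insert_subset_iff, hp, hq]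
        · rw [Finset.card_pair hpq.ne]; exact G.card_le_two m
      have huniq : ∀ m, p ∈ G.par m → q ∈ G.par m → m = m0 := by
        intro m hp hq
        by_contra hne
        rcases lt_or_gt_of_ne hne with h | h
        · exact (G.meet_of_two m0 p q hp0 hq0 hpq).2 m (G.par_lt m q hq) h (hpar m hp hq)
        · exact (G.meet_of_two m p q hp hq hpq).2 m0 (G.par_lt m0 q hq0) h (hpar m0 hp0 hq0)
      have hAdj : ¬ G.Adj p q := by
        rintro (⟨_, h⟩ | ⟨h, _⟩)
        · exact h m0 (G.par_lt m0 q hq0) (hpar m0 hp0 hq0)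
        · exact hnot h
      rw [if_neg hAdj, if_pos (G.meet_of_two m0 p q hp0 hq0 hpq).1,
        Finset.sum_eq_single m0, if_pos hp0, if_pos hq0]
      · ring
      · intro m _ hm
        by_cases hp : p ∈ G.par m
        · rw [if_neg (fun hq => hm (huniq m hp hq)), mul_zero]
        · rw [if_neg hp, zero_mul]
      · simp
    · push Not at hex
      rw [Finset.sum_eq_zero (fun m _ => by
        by_cases hp : p ∈ G.par m
        · rw [if_neg (hex m hp), mul_zero]
        · rw [if_neg hp, zero_mul]), sub_zero]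
      refine if_congr ⟨?_, fun h => Or.inl ⟨h, fun m _ hm => ?_⟩⟩ rfl rfl
      · rintro (⟨h, _⟩ | ⟨h, _⟩)
        · exact h
        · exact absurd h hnot
      · exact hex m (hm ▸ by simp) (hm ▸ by simp)
  refine Matrix.ext fun p q => ?_
  rw [Matrix.neg_apply, Matrix.mul_apply]
  simp only [Matrix.transpose_apply, prox, sub_mul, mul_sub, Finset.sum_sub_distrib, ite_mul,
    one_mul, zero_mul, Finset.sum_ite_eq', Finset.mem_univ, if_true]
  have h3 : ∑ m, (if p ∈ G.par m then (1 : ℚ) else 0) * (if m = q then 1 else 0) =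
      if p ∈ G.par q then 1 else 0 := by
    rw [Finset.sum_eq_single q (fun m _ hm => by rw [if_neg hm, mul_zero]) (by simp),
      if_pos rfl, mul_one]
  simp only [ite_mul, one_mul, zero_mul] at h3
  rw [h3]
  unfold BlowupGraph.mat
  rcases lt_trichotomy p q with h | h | h
  · have hnot : q ∉ G.par p := fun h' => (not_lt.2 (G.par_lt p q h').le) h
    rw [if_neg h.ne, if_neg h.ne, if_neg hnot, key p q h]
    simp only [ite_mul, one_mul, zero_mul]
    ring
  · subst h
    have hnot : p ∉ G.par p := fun h' => lt_irrefl _ (G.par_lt p p h')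
    rw [if_pos rfl, if_pos rfl, if_neg hnot]
    unfold BlowupGraph.selfInt
    rw [Finset.card_filter]
    push_cast
    rw [sub_zero, zero_sub, sub_neg_eq_add, neg_add, sub_eq_add_neg]
    congr 2
    exact Finset.sum_congr rfl fun m _ => by split_ifs <;> rfl
  · have hnot : p ∉ G.par q := fun h' => (not_lt.2 (G.par_lt q p h').le) h
    have hsymm : G.Adj p q ↔ G.Adj q p := by unfold BlowupGraph.Adj; exact or_comm
    rw [if_neg h.ne', if_neg h.ne', if_neg hnot, if_congr hsymm rfl rfl, key q p h]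
    have hc : ∀ m, (if q ∈ G.par m then (1 : ℚ) else 0) * (if p ∈ G.par m then 1 else 0) =
        (if p ∈ G.par m then (if q ∈ G.par m then (1 : ℚ) else 0) else 0) := fun m => by
      split_ifs <;> simp
    simp only [hc]
    ring

lemma lNum_eq_rNum (I : Finset (Fin n)) (σ : Equiv.Perm (Fin n))
    (_hσI : ∀ i : Fin n, σ i ∈ I ↔ i ∈ I) : G.lNum I σ = BlowupGraph.rNum I σ := by
  classical
  set M := G.mat with hMdef
  set P := prox G
  set S := tot G
  have hPS : P * S = 1 := prox_mul_tot G
  have hSP : S * P = 1 := mul_eq_one_comm.1 hPS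
  have hMP : M = -(Pᵀ * P) := mat_eq G
  let N : Matrix (Fin n) (Fin n) ℚ := S * Sᵀ
  have hN : ∀ i j, (G.mult i j : ℚ) = N i j := fun i j => by
    simp only [N, S, BlowupGraph.mult, Matrix.mul_apply, Matrix.transpose_apply, tot]
    push_cast
    rfl
  have hNs : ∀ i j, N i j = N j i := fun i j => by
    simp only [N, Matrix.mul_apply, Matrix.transpose_apply, mul_comm]
  have hMN : M * N = -1 := by
    rw [hMP, Matrix.neg_mul, show Pᵀ * P * (S * Sᵀ) = Pᵀ * (P * S) * Sᵀ by
      simp only [Matrix.mul_assoc], hPS, Matrix.mul_one, ← Matrix.transpose_mul, hSP,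
      Matrix.transpose_one]
  set B := M.submatrix (fun x : I => x.1) (fun x : I => x.1) with hB
  have hBu : IsUnit B.det := by
    rw [isUnit_iff_ne_zero]
    intro h
    obtain ⟨v, hv0, hv⟩ := Matrix.exists_mulVec_eq_zero_iff.2 h
    refine hv0 ?_
    let w : Fin n → ℚ := fun i => if hi : i ∈ I then v ⟨i, hi⟩ else 0
    have hw : ∀ x : I, w x.1 = v x := fun x => by simp [w, x.2]
    have hsum : ∀ f : Fin n → ℚ, ∑ i, f i * w i = ∑ x : I, f x.1 * v x := by
      intro f
      rw [← Finset.sum_subset (Finset.subset_univ I) (fun i _ hi => by simp [w, hi]),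
        ← Finset.sum_coe_sort I]
      exact Finset.sum_congr rfl fun x _ => by rw [hw]
    have hMw : ∀ x : I, (M *ᵥ w) x.1 = 0 := fun x => by
      rw [Matrix.mulVec, dotProduct, hsum]
      exact congrFun hv x
    have hq : (P *ᵥ w) ⬝ᵥ (P *ᵥ w) = 0 := by
      rw [Matrix.dotProduct_mulVec, ← Matrix.mulVec_transpose, Matrix.mulVec_mulVec,
        show Pᵀ * P = -M by rw [hMP, neg_neg], dotProduct,
        Finset.sum_eq_zero]
      intro i _
      by_cases hi : i ∈ I
      · rw [Matrix.neg_mulVec, Pi.neg_apply, hMw ⟨i, hi⟩, neg_zero, zero_mul]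
      · simp [w, hi]
    have hP0 : P *ᵥ w = 0 := funext fun i => by
      simp only [dotProduct] at hq
      have := (Finset.sum_eq_zero_iff_of_nonneg
        (fun j _ => mul_self_nonneg ((P *ᵥ w) j))).1 hq i (Finset.mem_univ _)
      exact mul_self_eq_zero.1 this
    have hw0 : w = 0 := by
      rw [← Matrix.one_mulVec w, ← hSP, ← Matrix.mulVec_mulVec, hP0, Matrix.mulVec_zero]
    funext x
    rw [← hw x, hw0]; rfl
  set J := Finset.univ.filter (fun i => i ∉ I) with hJdef
  have hsplit : ∀ f : Fin n → ℚ, ∑ i, f i = ∑ x : I, f x.1 + ∑ j ∈ J, f j := by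
    intro f
    rw [Finset.sum_coe_sort I f, ← Finset.sum_add_sum_compl I f]
    congr 1
    exact Finset.sum_congr (by ext; simp [J]) fun _ _ => rfl
  have hMNa : ∀ a i, ∑ x : I, M a x.1 * N x.1 i + ∑ j ∈ J, M a j * N j i =
      -(if a = i then 1 else 0) := by
    intro a i
    rw [← hsplit (fun y => M a y * N y i), ← Matrix.mul_apply, hMN, Matrix.neg_apply,
      Matrix.one_apply]
  have hI : ∀ i, i ∉ I → ∀ a : I, ∑ b : I, B⁻¹ a b * ∑ j ∈ J, M b.1 j * N j i = -N a.1 i := by
    intro i hi a
    have h1 : ∀ b : I, ∑ j ∈ J, M b.1 j * N j i = -∑ x : I, B b x * N x.1 i := by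
      intro b
      have := hMNa b.1 i
      rw [if_neg (fun e : b.1 = i => hi (e ▸ b.2)), neg_zero] at this
      exact eq_neg_of_add_eq_zero_right this
    simp only [h1, mul_neg, Finset.sum_neg_distrib, Finset.mul_sum, ← mul_assoc]
    rw [Finset.sum_comm]
    simp only [← Finset.sum_mul, ← Matrix.mul_apply, Matrix.nonsing_inv_mul B hBu, Matrix.one_apply,
      ite_mul, one_mul, zero_mul, Finset.sum_ite_eq, Finset.mem_univ, if_true]
  have key : ∀ a i, i ∉ I → ∑ j ∈ J, G.pairing I a j * N j i = -(if a = i then 1 else 0) := by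
    intro a i hi
    unfold BlowupGraph.pairing
    simp only [sub_mul, Finset.sum_sub_distrib, Finset.sum_mul]
    rw [Finset.sum_comm (s := J)]
    have h2 : ∀ x : I, ∑ j ∈ J, ∑ b : I, G.mat a x.1 * B⁻¹ x b * G.mat b.1 j * N j i =
        M a x.1 * (-N x.1 i) := by
      intro x
      rw [← hI i hi x, Finset.mul_sum, Finset.sum_comm]
      refine Finset.sum_congr rfl fun b _ => ?_
      rw [Finset.mul_sum, Finset.mul_sum]
      exact Finset.sum_congr rfl fun j _ => by rw [← hMdef]; ring
    rw [Finset.sum_congr rfl (fun x _ => h2 x)]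
    simp only [mul_neg, Finset.sum_neg_distrib, sub_neg_eq_add]
    rw [add_comm]
    exact hMNa a i
  unfold BlowupGraph.lNum BlowupGraph.rNum
  have h4 : ∀ i ∈ J, ∑ j ∈ J, (G.mult i j : ℚ) * G.pairing I (σ i) j =
      -(if σ i = i then 1 else 0) := by
    intro i hi
    rw [← key (σ i) i (Finset.mem_filter.1 hi).2]
    exact Finset.sum_congr rfl fun j _ => by rw [hN, hNs, mul_comm]
  rw [Finset.sum_congr rfl h4, Finset.sum_neg_distrib, Finset.sum_boole, Finset.filter_filter]

end Groth.Agent.ArLef15
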